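import Cfsg.Agent.Lib.Helper12.Fi24.Final
import Cfsg.Agent.Lib.Helper12.Ord.Words

/-!
The presented Fischer group Fi24 and its permutation representation of degree `306936`: order, centre, the centraliser
of the generator `l`, every generator is a conjugate of `l`, and a word which fixes the twelve points of the generators
is trivial (helper12).
-/

set_option autoImplicit false
set_option maxRecDepth 100000

namespace Cfsg.Agent.Lib.Helper12.Fi24Ex

open Cfsg.Spor Cfsg.Agent.Lib.Helper12.TC Cfsg.Agent.Lib.Helper12.TCG Cfsg.Agent.Lib.Helper12.TCG.Fi24Pres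
  Cfsg.Agent.Lib.Helper12.TCG.Fi24x306936 Cfsg.Agent.Lib.Helper12.Ord Cfsg.Agent.Lib.Helper12.Fi24

open scoped commutatorElement

/-- the transposition `l` -/
noncomputable def tt : Fi24 := g .l

theorem tt_eq_v : tt = v 0 := rfl

theorem hvsq : ∀ s < 12, v s * v s = 1 := by
  intro s hs
  interval_cases s <;> exact g_sq _

theorem ha1 : g .a ≠ 1 := Fi24.ha1 rho rho_a_ne

theorem hl1 : g .l ≠ 1 := Fi24.hl1 rho rho_l_ne

theorem hal : g .a ≠ g .l := Fi24.hal rho rho_a_ne_l

theorem finite : Finite Fi24 := (finite_card rho rho_a_ne rho_l_ne rho_a_ne_l spider' rho_index).1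

theorem card_eq : Nat.card Fi24 = 2510411418381323442585600 :=
  (finite_card rho rho_a_ne rho_l_ne rho_a_ne_l spider' rho_index).2

theorem card_Hs_eq : Nat.card Hs = 8178940946586009600 := card_Hs spider' ha1 hal hl1

theorem tt_sq : tt * tt = 1 := g_sq .l

theorem tt_ne_one : tt ≠ 1 := hl1

theorem hpt2 : Nat.beq (Fn.applyW TT [0, 1] 0) 3 = true := by decide +kernel

theorem hpt3 : Nat.beq (Fn.applyW TT [1, 0] 0) 1 = true := by decide +kernel

/-- the generators `l` and `k` do not commute -/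
theorem not_comm_lk : v 0 * v 1 ≠ v 1 * v 0 := by
  intro h1
  have e1 : ((rho (wprod v [0, 1]) ⟨0, hN0⟩ : Fin cN) : ℕ) = 3 := by
    rw [Fn.rho_word v rho rho_gen [0, 1] (by decide)]
    exact Nat.eq_of_beq_eq_true hpt2
  have e2 : ((rho (wprod v [1, 0]) ⟨0, hN0⟩ : Fin cN) : ℕ) = 1 := by
    rw [Fn.rho_word v rho rho_gen [1, 0] (by decide)]
    exact Nat.eq_of_beq_eq_true hpt3
  have e3 : wprod v [0, 1] = wprod v [1, 0] := by
    rw [wprod_cons, wprod_cons, wprod_nil, mul_one, wprod_cons, wprod_cons, wprod_nil, mul_one]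
    exact h1
  rw [e3, e2] at e1
  exact absurd e1 (by decide)

theorem center_eq_bot : Subgroup.center Fi24 = ⊥ := by
  rcases normal_subgroups rho rho_core rho_a_ne rho_l_ne rho_a_ne_l spider' isCoatom_Hs
    (Subgroup.center Fi24) inferInstance with h | h
  · exact h
  · exfalso
    -- the commutator subgroup would be central
    have h1 : ⁅v 0, v 1⁆ ∈ Subgroup.center Fi24 := h (Subgroup.commutator_mem_commutator
      (Subgroup.mem_top _) (Subgroup.mem_top _))
    have hinv0 : (v 0)⁻¹ = v 0 := inv_eq_of_mul_eq_one_left (hvsq 0 (by decide))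
    have hinv1 : (v 1)⁻¹ = v 1 := inv_eq_of_mul_eq_one_left (hvsq 1 (by decide))
    have h3 : (v 0 * v 1) ^ 3 = 1 := g_braid .l .k (by decide)
    have h2 : ⁅v 0, v 1⁆ = v 1 * v 0 := by
      rw [commutatorElement_def, hinv0, hinv1]
      have : v 0 * v 1 * v 0 * v 1 * (v 0 * v 1) = 1 := by
        rw [pow_succ, pow_succ, pow_one] at h3
        simpa only [mul_assoc] using h3
      have h4 : v 0 * v 1 * v 0 * v 1 = (v 0 * v 1)⁻¹ := eq_inv_of_mul_eq_one_left this
      rw [h4, mul_inv_rev, hinv0, hinv1]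
    rw [h2] at h1
    have h5 := Subgroup.mem_center_iff.mp h1 (v 0)
    -- v 0 * (v 1 * v 0) = v 1 * v 0 * v 0 = v 1
    have h6 : v 0 * (v 1 * v 0) = v 1 := by
      rw [h5, mul_assoc, hvsq 0 (by decide), mul_one]
    apply not_comm_lk
    have h7 : v 0 * v 1 = v 0 * (v 0 * (v 1 * v 0)) := by rw [h6]
    rw [h7, ← mul_assoc, hvsq 0 (by decide), one_mul]

theorem centralizer_tt : Subgroup.centralizer {tt} = Hs := by
  have hle : Hs ≤ Subgroup.centralizer {tt} := by
    intro h hh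
    rw [Subgroup.mem_centralizer_singleton_iff]
    exact l_central h hh
  by_contra hne
  have hlt : Hs < Subgroup.centralizer {tt} := lt_of_le_of_ne hle (fun h => hne h.symm)
  have htop := isCoatom_Hs.2 _ hlt
  have hcen : tt ∈ Subgroup.center Fi24 := by
    rw [Subgroup.mem_center_iff]
    intro γ
    have : γ ∈ Subgroup.centralizer {tt} := by rw [htop]; trivial
    exact Subgroup.mem_centralizer_singleton_iff.mp this
  rw [center_eq_bot, Subgroup.mem_bot] at hcen
  exact tt_ne_one hcen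

/-- the words which conjugate `l` to the generators -/
def cw : ℕ → List ℕ
  | 0 => []
  | 1 => [0, 1]
  | 2 => [1, 2, 0, 1]
  | 3 => [2, 3, 1, 2, 0, 1]
  | 4 => [3, 4, 2, 3, 1, 2, 0, 1]
  | 5 => [4, 5, 3, 4, 2, 3, 1, 2, 0, 1]
  | 6 => [5, 6, 4, 5, 3, 4, 2, 3, 1, 2, 0, 1]
  | 7 => [6, 7, 5, 6, 4, 5, 3, 4, 2, 3, 1, 2, 0, 1]
  | 8 => [7, 8, 6, 7, 5, 6, 4, 5, 3, 4, 2, 3, 1, 2, 0, 1]
  | 9 => [8, 9, 7, 8, 6, 7, 5, 6, 4, 5, 3, 4, 2, 3, 1, 2, 0, 1]
  | 10 => [5, 10, 4, 5, 3, 4, 2, 3, 1, 2, 0, 1]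
  | 11 => [10, 11, 5, 10, 4, 5, 3, 4, 2, 3, 1, 2, 0, 1]
  | _ => []

/-- the points of the generators -/
def qpts : List ℕ := [0, 3, 275286, 275282, 275279, 275278, 275306, 275360, 275446, 275581, 275309, 275365]

theorem cw_lt : ∀ k < 12, ∀ s ∈ cw k, s < 14 := by decide

theorem qpts_lt : ∀ q ∈ qpts, q < cN := by decide

theorem cw_pt : ∀ k < 12, Fn.applyW TT (cw k) 0 = qpts.getD k 0 := by decide +kernel

/-- a step along an edge of the graph -/
theorem conj_step {x y : ℕ} (hx2 : v x * v x = 1) (hy2 : v y * v y = 1) (h3 : (v x * v y) ^ 3 = 1) {c : List ℕ}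
    (hx : v x = wprod v c * tt * (wprod v c)⁻¹) :
    v y = wprod v (x :: y :: c) * tt * (wprod v (x :: y :: c))⁻¹ := by
  have h := Fi23Simple.conj_eq_of_braid (v x) (v y) hx2 hy2 h3
  rw [wprod_cons, wprod_cons]
  have e : v x * (v y * wprod v c) * tt * (v x * (v y * wprod v c))⁻¹ =
      (v x * v y) * (wprod v c * tt * (wprod v c)⁻¹) * (v x * v y)⁻¹ := by group
  rw [e, ← hx, h]

/-- the generators are conjugates of `l` -/
theorem conj_gen : ∀ k < 12, v k = wprod v (cw k) * tt * (wprod v (cw k))⁻¹ := by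
  have h0 : v 0 = wprod v (cw 0) * tt * (wprod v (cw 0))⁻¹ := by
    show v 0 = wprod v [] * v 0 * (wprod v [])⁻¹
    rw [wprod_nil, one_mul, inv_one, mul_one]
  have h1 : v 1 = wprod v (cw 1) * tt * (wprod v (cw 1))⁻¹ :=
    conj_step (x := 0) (y := 1) (hvsq 0 (by decide)) (hvsq 1 (by decide)) (g_braid .l .k (by decide)) h0
  have h2 : v 2 = wprod v (cw 2) * tt * (wprod v (cw 2))⁻¹ :=
    conj_step (x := 1) (y := 2) (hvsq 1 (by decide)) (hvsq 2 (by decide)) (g_braid .k .a (by decide)) h1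
  have h3 : v 3 = wprod v (cw 3) * tt * (wprod v (cw 3))⁻¹ :=
    conj_step (x := 2) (y := 3) (hvsq 2 (by decide)) (hvsq 3 (by decide)) (g_braid .a .b (by decide)) h2
  have h4 : v 4 = wprod v (cw 4) * tt * (wprod v (cw 4))⁻¹ :=
    conj_step (x := 3) (y := 4) (hvsq 3 (by decide)) (hvsq 4 (by decide)) (g_braid .b .c (by decide)) h3
  have h5 : v 5 = wprod v (cw 5) * tt * (wprod v (cw 5))⁻¹ :=
    conj_step (x := 4) (y := 5) (hvsq 4 (by decide)) (hvsq 5 (by decide)) (g_braid .c .d (by decide)) h4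
  have h6 : v 6 = wprod v (cw 6) * tt * (wprod v (cw 6))⁻¹ :=
    conj_step (x := 5) (y := 6) (hvsq 5 (by decide)) (hvsq 6 (by decide)) (g_braid .d .e (by decide)) h5
  have h7 : v 7 = wprod v (cw 7) * tt * (wprod v (cw 7))⁻¹ :=
    conj_step (x := 6) (y := 7) (hvsq 6 (by decide)) (hvsq 7 (by decide)) (g_braid .e .f (by decide)) h6
  have h8 : v 8 = wprod v (cw 8) * tt * (wprod v (cw 8))⁻¹ :=
    conj_step (x := 7) (y := 8) (hvsq 7 (by decide)) (hvsq 8 (by decide)) (g_braid .f .g (by decide)) h7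
  have h9 : v 9 = wprod v (cw 9) * tt * (wprod v (cw 9))⁻¹ :=
    conj_step (x := 8) (y := 9) (hvsq 8 (by decide)) (hvsq 9 (by decide)) (g_braid .g .j (by decide)) h8
  have h10 : v 10 = wprod v (cw 10) * tt * (wprod v (cw 10))⁻¹ :=
    conj_step (x := 5) (y := 10) (hvsq 5 (by decide)) (hvsq 10 (by decide)) (g_braid .d .h (by decide)) h5
  have h11 : v 11 = wprod v (cw 11) * tt * (wprod v (cw 11))⁻¹ :=
    conj_step (x := 10) (y := 11) (hvsq 10 (by decide)) (hvsq 11 (by decide)) (g_braid .h .i (by decide)) h10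
  intro k hk
  interval_cases k
  · exact h0
  · exact h1
  · exact h2
  · exact h3
  · exact h4
  · exact h5
  · exact h6
  · exact h7
  · exact h8
  · exact h9
  · exact h10
  · exact h11

/-- the elements which fix the first point are in the subgroup -/
theorem mem_Hs_of_fix (γ : Fi24) (h : rho γ ⟨0, hN0⟩ = ⟨0, hN0⟩) : γ ∈ Hs := by
  obtain ⟨Φ, hΦ⟩ := rho_equiv
  have h1 : Φ (γ : Fi24 ⧸ Hs) = Φ ((1 : Fi24) : Fi24 ⧸ Hs) := by
    rw [hΦ, hΦ, h, map_one, Equiv.Perm.one_apply]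
  have h2 := Φ.injective h1
  have h3 : (1 : Fi24)⁻¹ * γ ∈ Hs := QuotientGroup.eq.mp h2.symm
  simpa using h3

/-- an element which commutes with the generators is trivial -/
theorem eq_one_of_comm (γ : Fi24) (h : ∀ k < 12, γ * v k = v k * γ) : γ = 1 := by
  have hc : γ ∈ Subgroup.center Fi24 := by
    rw [Subgroup.mem_center_iff]
    intro x
    have hx : x ∈ Subgroup.closure (Set.range fun y : Fi24.Gen => PresentedGroup.mk rels (FreeGroup.of y)) := by
      have : Subgroup.closure (Set.range fun y : Fi24.Gen => PresentedGroup.mk rels (FreeGroup.of y)) = ⊤ :=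
        PresentedGroup.closure_range_of rels
      rw [this]
      trivial
    refine Subgroup.closure_induction (p := fun x _ => x * γ = γ * x) ?_ ?_ ?_ ?_ hx
    · rintro _ ⟨y, rfl⟩
      obtain ⟨hy1, hy2⟩ := hidx y
      have := h (idx y) hy1
      have e : v (idx y) = PresentedGroup.mk rels (FreeGroup.of y) := by
        cases y <;> rfl
      show PresentedGroup.mk rels (FreeGroup.of y) * γ = γ * PresentedGroup.mk rels (FreeGroup.of y)
      rw [← e]
      exact this.symm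
    · rw [one_mul, mul_one]
    · intro a b _ _ ha hb
      rw [mul_assoc, hb, ← mul_assoc, ha, mul_assoc]
    · intro a _ ha
      have : a⁻¹ * (a * γ) * a⁻¹ = a⁻¹ * (γ * a) * a⁻¹ := by rw [ha]
      have h2 : γ * a⁻¹ = a⁻¹ * γ := by simpa [mul_assoc] using this
      exact h2.symm
  rw [center_eq_bot, Subgroup.mem_bot] at hc
  exact hc

/-- an element which fixes the point of a conjugate of `l` commutes with it -/
theorem comm_of_fix (γ u : Fi24) (h : rho γ (rho u ⟨0, hN0⟩) = rho u ⟨0, hN0⟩) :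
    γ * (u * tt * u⁻¹) = u * tt * u⁻¹ * γ := by
  have h1 : rho (u⁻¹ * γ * u) ⟨0, hN0⟩ = ⟨0, hN0⟩ := by
    rw [map_mul, map_mul, Equiv.Perm.mul_apply, Equiv.Perm.mul_apply, h, ← Equiv.Perm.mul_apply, ← map_mul,
      inv_mul_cancel, map_one]
    rfl
  have h2 := l_central _ (mem_Hs_of_fix _ h1)
  have e1 : γ * (u * tt * u⁻¹) = u * ((u⁻¹ * γ * u) * tt) * u⁻¹ := by group
  have e2 : u * tt * u⁻¹ * γ = u * (tt * (u⁻¹ * γ * u)) * u⁻¹ := by group
  rw [e1, e2]
  exact congrArg (fun z => u * z * u⁻¹) h2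

/-- a word which fixes the points of the generators is trivial -/
theorem word_trivial (w : List ℕ) (hw : ∀ s ∈ w, s < 14)
    (h : ∀ k < 12, Fn.applyW TT w (qpts.getD k 0) = qpts.getD k 0) : wprod v w = 1 := by
  apply eq_one_of_comm
  intro k hk
  rw [conj_gen k hk]
  apply comm_of_fix
  apply Fin.ext
  have e1 : ((rho (wprod v (cw k)) ⟨0, hN0⟩ : Fin cN) : ℕ) = qpts.getD k 0 := by
    rw [Fn.rho_word v rho rho_gen (cw k) (cw_lt k hk), cw_pt k hk]
  have hq : qpts.getD k 0 < cN := by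
    interval_cases k <;> decide
  have e2 : rho (wprod v (cw k)) ⟨0, hN0⟩ = ⟨qpts.getD k 0, hq⟩ := Fin.ext e1
  rw [e2, Fn.rho_word v rho rho_gen w hw]
  exact h k hk

end Cfsg.Agent.Lib.Helper12.Fi24Ex
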