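import Cfsg.Agent.Lib.Helper12.Fi24Ex.HeRel

/-!
The relations of the Held group for the seven words in the generators of the presented group Fi24: checks, part 1 (helper12).
-/

set_option autoImplicit false
set_option maxRecDepth 100000

namespace Cfsg.Agent.Lib.Helper12.Fi24Ex

open Cfsg.Agent.Lib.Helper12.TC

theorem ex1 : fixK (hw 4 ++ (wpow (hw 5 ++ hw 6) 2).reverse) = true := by decide +kernel

theorem pr_0_3 : fixK (wpow (hw 0 ++ hw 3) 2) = true := by decide +kernel

theorem pr_1_4 : fixK (wpow (hw 1 ++ hw 4) 2) = true := by decide +kernel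

theorem pr_1_5 : fixK (wpow (hw 1 ++ hw 5) 2) = true := by decide +kernel

theorem pr_2_3 : fixK (wpow (hw 2 ++ hw 3) 10) = true := by decide +kernel

theorem pr_2_4 : fixK (wpow (hw 2 ++ hw 4) 2) = true := by decide +kernel

theorem sq_3 : fixK (hw 3 ++ hw 3) = true := by decide +kernel

end Cfsg.Agent.Lib.Helper12.Fi24Ex
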