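import Cfsg.Agent.Lib.Helper12.Fi24Ex.HeRel

/-!
The relations of the Held group for the seven words in the generators of the presented group Fi24: checks, part 3 (helper12).
-/

set_option autoImplicit false
set_option maxRecDepth 100000

namespace Cfsg.Agent.Lib.Helper12.Fi24Ex

open Cfsg.Agent.Lib.Helper12.TC

theorem pr_0_2 : fixK (wpow (hw 0 ++ hw 2) 2) = true := by decide +kernel

theorem pr_0_4 : fixK (wpow (hw 0 ++ hw 4) 2) = true := by decide +kernel

theorem pr_1_6 : fixK (wpow (hw 1 ++ hw 6) 2) = true := by decide +kernel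

theorem pr_3_4 : fixK (wpow (hw 3 ++ hw 4) 3) = true := by decide +kernel

theorem pr_3_5 : fixK (wpow (hw 3 ++ hw 5) 3) = true := by decide +kernel

theorem pr_4_5 : fixK (wpow (hw 4 ++ hw 5) 2) = true := by decide +kernel

theorem pr_5_6 : fixK (wpow (hw 5 ++ hw 6) 4) = true := by decide +kernel

theorem sq_0 : fixK (hw 0 ++ hw 0) = true := by decide +kernel

theorem sq_6 : fixK (hw 6 ++ hw 6) = true := by decide +kernel

end Cfsg.Agent.Lib.Helper12.Fi24Ex
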