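import Cfsg.Agent.Lib.Helper12.Fi24Ex.HeRel

/-!
The relations of the Held group for the seven words in the generators of the presented group Fi24: checks, part 4 (helper12).
-/

set_option autoImplicit false
set_option maxRecDepth 100000

namespace Cfsg.Agent.Lib.Helper12.Fi24Ex

open Cfsg.Agent.Lib.Helper12.TC

theorem ex2 : fixK (hw 4 ++ (wpow (hw 0 ++ (hw 1 ++ hw 2)) 3).reverse) = true := by decide +kernel

theorem ex3 : fixK (hw 0 ++ (wpow (hw 2 ++ hw 3) 5).reverse) = true := by decide +kernel

theorem pr_0_1 : fixK (wpow (hw 0 ++ hw 1) 4) = true := by decide +kernel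

theorem pr_0_5 : fixK (wpow (hw 0 ++ hw 5) 2) = true := by decide +kernel

theorem pr_2_6 : fixK (wpow (hw 2 ++ hw 6) 2) = true := by decide +kernel

theorem pr_4_6 : fixK (wpow (hw 4 ++ hw 6) 2) = true := by decide +kernel

theorem sq_2 : fixK (hw 2 ++ hw 2) = true := by decide +kernel

theorem sq_4 : fixK (hw 4 ++ hw 4) = true := by decide +kernel

theorem sq_5 : fixK (hw 5 ++ hw 5) = true := by decide +kernel

end Cfsg.Agent.Lib.Helper12.Fi24Ex
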