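import Cfsg.Agent.Lib.Helper12.Fi24Ex.HeChkA
import Cfsg.Agent.Lib.Helper12.Fi24Ex.HeChkB
import Cfsg.Agent.Lib.Helper12.Fi24Ex.HeChkC
import Cfsg.Agent.Lib.Helper12.Fi24Ex.HeChkD
import Cfsg.Agent.Lib.Helper12.Ord.HeSimple
import Cfsg.Agent.Lib.Helper12.TC.Cox
import Cfsg.Prelude.Def_Spor_He
import Cfsg.Prelude.Def_Sporadic

/-!
The presented Held group embeds into the commutator subgroup of the presented Fischer group Fi24: seven words which
satisfy the relations of the Held group, the homomorphism, and its image (helper12).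
-/

set_option autoImplicit false
set_option maxRecDepth 100000

namespace Cfsg.Agent.Lib.Helper12.Fi24Ex

open Cfsg.Spor Cfsg.Agent.Lib.Helper12.TC Cfsg.Agent.Lib.Helper12.TCG Cfsg.Agent.Lib.Helper12.TCG.Fi24Pres
  Cfsg.Agent.Lib.Helper12.TCG.Fi24x306936 Cfsg.Agent.Lib.Helper12.Ord Cfsg.Agent.Lib.Helper12.Fi24

open scoped commutatorElement

/-- numbering of the generators of the Held group -/
def heGen : ℕ → He.Gen
  | 0 => .a
  | 1 => .b
  | 2 => .c
  | 3 => .d
  | 4 => .e
  | 5 => .f
  | _ => .g

/-- numbering of the generators of the Held group -/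
def heIdx : He.Gen → ℕ
  | .a => 0
  | .b => 1
  | .c => 2
  | .d => 3
  | .e => 4
  | .f => 5
  | .g => 6

/-- the images of the generators of the Held group -/
noncomputable def heImg (x : He.Gen) : Fi24 := wprod v (hw (heIdx x))

/-- the homomorphism from the free group -/
noncomputable def phi0 : FreeGroup He.Gen →* Fi24 := FreeGroup.lift heImg

theorem phi0_of (x : He.Gen) : phi0 (FreeGroup.of x) = wprod v (hw (heIdx x)) := by
  unfold phi0
  rw [FreeGroup.lift_apply_of]
  rfl

theorem phi0_gen : ∀ i < 7, phi0 (FreeGroup.of (heGen i)) = wprod v (hw i) := by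
  intro i hi
  rw [phi0_of]
  interval_cases i <;> rfl

theorem hsurj : ∀ y : He.Gen, ∃ i < 7, heGen i = y := by
  intro y
  cases y
  · exact ⟨0, by decide, rfl⟩
  · exact ⟨1, by decide, rfl⟩
  · exact ⟨2, by decide, rfl⟩
  · exact ⟨3, by decide, rfl⟩
  · exact ⟨4, by decide, rfl⟩
  · exact ⟨5, by decide, rfl⟩
  · exact ⟨6, by decide, rfl⟩

theorem pair_of_chk (i j m : ℕ) (hi : i < 7) (hj : j < 7) (h : fixK (wpow (hw i ++ hw j) m) = true) :
    (wprod v (hw i) * wprod v (hw j)) ^ m = 1 := by
  rw [← wprod_append, ← wprod_wpow_eq]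
  exact trivial_of_fixK _ (genK_wpow (genK_append (hw_gen i hi) (hw_gen j hj)) m) h

theorem sq_of_chk (i : ℕ) (hi : i < 7) (h : fixK (hw i ++ hw i) = true) :
    wprod v (hw i) * wprod v (hw i) = 1 := by
  rw [← wprod_append]
  exact trivial_of_fixK _ (genK_append (hw_gen i hi) (hw_gen i hi)) h

theorem hsq : ∀ y : He.Gen, phi0 (FreeGroup.of y) * phi0 (FreeGroup.of y) = 1 := by
  intro y
  rw [phi0_of]
  cases y
  · exact sq_of_chk 0 (by decide) sq_0
  · exact sq_of_chk 1 (by decide) sq_1
  · exact sq_of_chk 2 (by decide) sq_2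
  · exact sq_of_chk 3 (by decide) sq_3
  · exact sq_of_chk 4 (by decide) sq_4
  · exact sq_of_chk 5 (by decide) sq_5
  · exact sq_of_chk 6 (by decide) sq_6

theorem hpairs : ∀ j < 7, ∀ i < j,
    (phi0 (FreeGroup.of (heGen i)) * phi0 (FreeGroup.of (heGen j))) ^ labN He.edges heGen i j = 1 := by
  intro j hj i hi
  rw [phi0_gen i (lt_trans hi hj), phi0_gen j hj]
  interval_cases j <;> interval_cases i
  · have e : labN He.edges heGen 0 1 = 4 := by decide
    rw [e]; exact pair_of_chk 0 1 4 (by decide) (by decide) pr_0_1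
  · have e : labN He.edges heGen 0 2 = 2 := by decide
    rw [e]; exact pair_of_chk 0 2 2 (by decide) (by decide) pr_0_2
  · have e : labN He.edges heGen 1 2 = 3 := by decide
    rw [e]; exact pair_of_chk 1 2 3 (by decide) (by decide) pr_1_2
  · have e : labN He.edges heGen 0 3 = 2 := by decide
    rw [e]; exact pair_of_chk 0 3 2 (by decide) (by decide) pr_0_3
  · have e : labN He.edges heGen 1 3 = 2 := by decide
    rw [e]; exact pair_of_chk 1 3 2 (by decide) (by decide) pr_1_3
  · have e : labN He.edges heGen 2 3 = 10 := by decide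
    rw [e]; exact pair_of_chk 2 3 10 (by decide) (by decide) pr_2_3
  · have e : labN He.edges heGen 0 4 = 2 := by decide
    rw [e]; exact pair_of_chk 0 4 2 (by decide) (by decide) pr_0_4
  · have e : labN He.edges heGen 1 4 = 2 := by decide
    rw [e]; exact pair_of_chk 1 4 2 (by decide) (by decide) pr_1_4
  · have e : labN He.edges heGen 2 4 = 2 := by decide
    rw [e]; exact pair_of_chk 2 4 2 (by decide) (by decide) pr_2_4
  · have e : labN He.edges heGen 3 4 = 3 := by decide
    rw [e]; exact pair_of_chk 3 4 3 (by decide) (by decide) pr_3_4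
  · have e : labN He.edges heGen 0 5 = 2 := by decide
    rw [e]; exact pair_of_chk 0 5 2 (by decide) (by decide) pr_0_5
  · have e : labN He.edges heGen 1 5 = 2 := by decide
    rw [e]; exact pair_of_chk 1 5 2 (by decide) (by decide) pr_1_5
  · have e : labN He.edges heGen 2 5 = 2 := by decide
    rw [e]; exact pair_of_chk 2 5 2 (by decide) (by decide) pr_2_5
  · have e : labN He.edges heGen 3 5 = 3 := by decide
    rw [e]; exact pair_of_chk 3 5 3 (by decide) (by decide) pr_3_5
  · have e : labN He.edges heGen 4 5 = 2 := by decide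
    rw [e]; exact pair_of_chk 4 5 2 (by decide) (by decide) pr_4_5
  · have e : labN He.edges heGen 0 6 = 2 := by decide
    rw [e]; exact pair_of_chk 0 6 2 (by decide) (by decide) pr_0_6
  · have e : labN He.edges heGen 1 6 = 2 := by decide
    rw [e]; exact pair_of_chk 1 6 2 (by decide) (by decide) pr_1_6
  · have e : labN He.edges heGen 2 6 = 2 := by decide
    rw [e]; exact pair_of_chk 2 6 2 (by decide) (by decide) pr_2_6
  · have e : labN He.edges heGen 3 6 = 3 := by decide
    rw [e]; exact pair_of_chk 3 6 3 (by decide) (by decide) pr_3_6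
  · have e : labN He.edges heGen 4 6 = 2 := by decide
    rw [e]; exact pair_of_chk 4 6 2 (by decide) (by decide) pr_4_6
  · have e : labN He.edges heGen 5 6 = 4 := by decide
    rw [e]; exact pair_of_chk 5 6 4 (by decide) (by decide) pr_5_6

theorem hcox : ∀ r ∈ coxRelators He.edges, phi0 r = 1 := by
  apply cox_hom_of_words He.edges heGen phi0 7 hsurj hsq
  intro b hb
  obtain ⟨j, hj, hb⟩ := List.mem_flatMap.mp hb
  obtain ⟨i, hi, rfl⟩ := List.mem_map.mp hb
  rw [wprod_coxWord]
  exact hpairs j (List.mem_range.mp hj) i (List.mem_range.mp hi)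

theorem hextra : ∀ r ∈ He.extra, phi0 r = 1 := by
  intro r hr
  have hr' : r ∈ [He.e * ((He.f * He.g) ^ 2)⁻¹, He.e * ((He.a * He.b * He.c) ^ 3)⁻¹,
      He.a * ((He.c * He.d) ^ 5)⁻¹, (He.c * He.d * He.f * He.g) ^ 4] := hr
  clear hr
  simp only [List.mem_cons, List.not_mem_nil, or_false] at hr'
  have g0 := hw_gen 0 (by decide)
  have g1 := hw_gen 1 (by decide)
  have g2 := hw_gen 2 (by decide)
  have g3 := hw_gen 3 (by decide)
  have g4 := hw_gen 4 (by decide)
  have g5 := hw_gen 5 (by decide)
  have g6 := hw_gen 6 (by decide)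
  rcases hr' with rfl | rfl | rfl | rfl
  · rw [map_mul, map_inv, map_pow, map_mul, mul_inv_eq_one]
    show phi0 (FreeGroup.of (heGen 4)) = (phi0 (FreeGroup.of (heGen 5)) * phi0 (FreeGroup.of (heGen 6))) ^ 2
    rw [phi0_gen 4 (by decide), phi0_gen 5 (by decide), phi0_gen 6 (by decide), ← wprod_append, ← wprod_wpow_eq]
    exact eq_of_fixK _ _ g4 (genK_wpow (genK_append g5 g6) 2) ex1
  · rw [map_mul, map_inv, map_pow, map_mul, map_mul, mul_inv_eq_one]
    show phi0 (FreeGroup.of (heGen 4)) = (phi0 (FreeGroup.of (heGen 0)) * phi0 (FreeGroup.of (heGen 1)) *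
      phi0 (FreeGroup.of (heGen 2))) ^ 3
    rw [phi0_gen 4 (by decide), phi0_gen 0 (by decide), phi0_gen 1 (by decide), phi0_gen 2 (by decide), mul_assoc,
      ← wprod_append, ← wprod_append, ← wprod_wpow_eq]
    exact eq_of_fixK _ _ g4 (genK_wpow (genK_append g0 (genK_append g1 g2)) 3) ex2
  · rw [map_mul, map_inv, map_pow, map_mul, mul_inv_eq_one]
    show phi0 (FreeGroup.of (heGen 0)) = (phi0 (FreeGroup.of (heGen 2)) * phi0 (FreeGroup.of (heGen 3))) ^ 5
    rw [phi0_gen 0 (by decide), phi0_gen 2 (by decide), phi0_gen 3 (by decide), ← wprod_append, ← wprod_wpow_eq]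
    exact eq_of_fixK _ _ g0 (genK_wpow (genK_append g2 g3) 5) ex3
  · rw [map_pow, map_mul, map_mul, map_mul]
    show (phi0 (FreeGroup.of (heGen 2)) * phi0 (FreeGroup.of (heGen 3)) * phi0 (FreeGroup.of (heGen 5)) *
      phi0 (FreeGroup.of (heGen 6))) ^ 4 = 1
    rw [phi0_gen 2 (by decide), phi0_gen 3 (by decide), phi0_gen 5 (by decide), phi0_gen 6 (by decide), mul_assoc,
      mul_assoc, ← wprod_append, ← wprod_append, ← wprod_append, ← wprod_wpow_eq]
    exact trivial_of_fixK _ (genK_wpow (genK_append g2 (genK_append g3 (genK_append g5 g6))) 4) ex4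

theorem hrels : ∀ r ∈ coxRelators He.edges ∪ {r | r ∈ He.extra}, FreeGroup.lift heImg r = 1 := by
  intro r hr
  rcases hr with h | h
  · exact hcox r h
  · exact hextra r h

/-- the homomorphism from the presented Held group -/
noncomputable def phi : He →* Fi24 := PresentedGroup.toGroup hrels

theorem phi_of (x : He.Gen) : phi (PresentedGroup.mk _ (FreeGroup.of x)) = wprod v (hw (heIdx x)) := by
  exact PresentedGroup.toGroup.of hrels

theorem hpta : Nat.beq (Fn.applyW TT (hw 0) 0) 277140 = true := by decide +kernel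

theorem phi_a_ne : phi (PresentedGroup.mk _ (FreeGroup.of He.Gen.a)) ≠ 1 := by
  rw [phi_of]
  intro h
  have e1 : ((rho (wprod v (hw 0)) ⟨0, hN0⟩ : Fin cN) : ℕ) = 277140 := by
    rw [Fn.rho_word v rho rho_gen (hw 0) (fun s hs => lt_trans (genK_lt (hw_gen 0 (by decide)) s hs) (by decide))]
    exact Nat.eq_of_beq_eq_true hpta
  have h' : wprod v (hw 0) = 1 := h
  rw [h', map_one] at e1
  exact absurd e1 (by decide)

theorem isSimpleGroup_He : IsSimpleGroup He := HeSimple.isSimpleGroup

theorem phi_injective : Function.Injective phi := by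
  have := isSimpleGroup_He
  rw [← MonoidHom.ker_eq_bot_iff]
  rcases (MonoidHom.normal_ker phi).eq_bot_or_eq_top with h | h
  · exact h
  · exfalso
    apply phi_a_ne
    rw [← MonoidHom.mem_ker, h]
    trivial

theorem not_prime_card_He : ¬ (Nat.card He).Prime := by
  rw [HeOrder.card_eq]
  intro h
  have h2 : (2 : ℕ) ∣ 4030387200 := by decide
  rcases (Nat.dvd_prime h).mp h2 with h3 | h3
  · exact absurd h3 (by decide)
  · exact absurd h3 (by decide)

theorem finite_He : Finite He := by
  apply Nat.finite_of_card_ne_zero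
  rw [HeOrder.card_eq]
  decide

/-- the Held group is perfect -/
theorem commutator_He : commutator He = ⊤ := by
  have := isSimpleGroup_He
  have := finite_He
  rcases (inferInstance : (commutator He).Normal).eq_bot_or_eq_top with h | h
  · exfalso
    apply not_prime_card_He
    have hcomm : ∀ a b : He, a * b = b * a := by
      intro a b
      have h1 : ⁅a, b⁆ ∈ commutator He := Subgroup.commutator_mem_commutator (Subgroup.mem_top a) (Subgroup.mem_top b)
      rw [h, Subgroup.mem_bot] at h1
      exact commutatorElement_eq_one_iff_mul_comm.mp h1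
    let _ : CommGroup He := { (inferInstance : Group He) with mul_comm := hcomm }
    exact IsSimpleGroup.prime_card
  · exact h

/-- the image of the Held group -/
noncomputable def KHe : Subgroup Fi24 := phi.range

theorem KHe_le : KHe ≤ commutator Fi24 := by
  unfold KHe
  rw [MonoidHom.range_eq_map, ← commutator_He, commutator_def, Subgroup.map_commutator, commutator_def]
  exact Subgroup.commutator_mono le_top le_top

/-- the image is a copy of the Held group -/
noncomputable def equivKHe : He ≃* KHe := MonoidHom.ofInjective phi_injective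

theorem isHe_KHe : Cfsg.IsHe KHe := by
  constructor
  · have := isSimpleGroup_He
    have hnt : Nontrivial KHe := equivKHe.symm.toEquiv.nontrivial
    exact IsSimpleGroup.isSimpleGroup_of_surjective equivKHe.toMonoidHom equivKHe.surjective
  · rw [← Nat.card_congr equivKHe.toEquiv]
    exact HeOrder.card_eq

end Cfsg.Agent.Lib.Helper12.Fi24Ex
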