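import Cfsg.Agent.Lib.Helper12.Fi24Ex.HeWords
import Cfsg.Agent.Lib.Helper12.TC.Marks

/-!
Words in the generators of the presented Fischer group Fi24: a word which fixes the points of the generators is
trivial, as a check by computation (helper12).
-/

set_option autoImplicit false
set_option maxRecDepth 100000

namespace Cfsg.Agent.Lib.Helper12.Fi24Ex

open Cfsg.Spor Cfsg.Agent.Lib.Helper12.TC Cfsg.Agent.Lib.Helper12.TCG Cfsg.Agent.Lib.Helper12.TCG.Fi24Pres
  Cfsg.Agent.Lib.Helper12.TCG.Fi24x306936 Cfsg.Agent.Lib.Helper12.Ord Cfsg.Agent.Lib.Helper12.Fi24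

/-- the word fixes the points of the generators -/
noncomputable def fixK (w : List ℕ) : Bool := allListK qpts (fun q => Nat.beq (Fn.applyW TT w q) q)

/-- the letters of the word are generators -/
def genK (w : List ℕ) : Bool := allListK w (fun s => Nat.blt s 12)

theorem genK_lt {w : List ℕ} (h : genK w = true) : ∀ s ∈ w, s < 12 := by
  intro s hs
  have := (allListK_iff _ _).mp h s hs
  exact Nat.blt_eq.mp this

theorem genK_append {w₁ w₂ : List ℕ} (h₁ : genK w₁ = true) (h₂ : genK w₂ = true) : genK (w₁ ++ w₂) = true := by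
  apply (allListK_iff _ _).mpr
  intro s hs
  rcases List.mem_append.mp hs with h | h
  · exact (allListK_iff _ _).mp h₁ s h
  · exact (allListK_iff _ _).mp h₂ s h

theorem genK_reverse {w : List ℕ} (h : genK w = true) : genK w.reverse = true := by
  apply (allListK_iff _ _).mpr
  intro s hs
  exact (allListK_iff _ _).mp h s (List.mem_reverse.mp hs)

theorem genK_wpow {w : List ℕ} (h : genK w = true) (k : ℕ) : genK (wpow w k) = true := by
  induction k with
  | zero => rfl
  | succ k ih =>
    have e : wpow w (k+1) = w ++ wpow w k := rfl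
    rw [e]
    exact genK_append h ih

theorem getD_mem : ∀ k < 12, qpts.getD k 0 ∈ qpts := by decide

theorem trivial_of_fixK (w : List ℕ) (hl : genK w = true) (h : fixK w = true) : wprod v w = 1 := by
  apply word_trivial w (fun s hs => lt_trans (genK_lt hl s hs) (by decide))
  intro k hk
  have := (allListK_iff _ _).mp h _ (getD_mem k hk)
  exact Nat.eq_of_beq_eq_true this

theorem wprod_wpow_eq {G : Type*} [Group G] (u : ℕ → G) (w : List ℕ) (k : ℕ) :
    wprod u (wpow w k) = wprod u w ^ k := by
  induction k with
  | zero =>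
    have e : wpow w 0 = [] := rfl
    rw [e, wprod_nil, pow_zero]
  | succ k ih =>
    have e : wpow w (k+1) = w ++ wpow w k := rfl
    rw [e, wprod_append, ih, pow_succ']

theorem inv_wprod (w : List ℕ) (hl : genK w = true) : (wprod v w)⁻¹ = wprod v w.reverse := by
  induction w with
  | nil => simp [wprod_nil]
  | cons s w ih =>
    have hs : s < 12 := genK_lt hl s List.mem_cons_self
    have hw : genK w = true := by
      apply (allListK_iff _ _).mpr
      intro t ht
      exact (allListK_iff _ _).mp hl t (List.mem_cons_of_mem _ ht)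
    rw [wprod_cons, mul_inv_rev, ih hw, List.reverse_cons, wprod_append, wprod_cons, wprod_nil, mul_one]
    congr 1
    exact inv_eq_of_mul_eq_one_left (hvsq s hs)

theorem eq_of_fixK (w₁ w₂ : List ℕ) (hl₁ : genK w₁ = true) (hl₂ : genK w₂ = true)
    (h : fixK (w₁ ++ w₂.reverse) = true) : wprod v w₁ = wprod v w₂ := by
  have h1 := trivial_of_fixK _ (genK_append hl₁ (genK_reverse hl₂)) h
  rw [wprod_append, ← inv_wprod w₂ hl₂] at h1
  exact mul_inv_eq_one.mp h1

theorem hw_gen : ∀ i < 7, genK (hw i) = true := by decide

end Cfsg.Agent.Lib.Helper12.Fi24Ex
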