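import Cfsg.Agent.Lib.Helper12.Fi24Ex.Base

/-!
Words in the generators of the presented Fischer group Fi24 for seven involutions which satisfy the relations of the
Held group: products of two or four transpositions (helper12; found by a search with permutations).
-/

set_option autoImplicit false

namespace Cfsg.Agent.Lib.Helper12.Fi24Ex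

/-- the words of the images of the generators `a, b, c, d, e, f, g` of the Held group -/
def hw : ℕ → List ℕ
  | 0 => [6, 7, 5, 6, 3, 4, 5, 10, 11, 10, 8, 6, 7, 5, 6, 4, 5, 10, 9, 8, 7, 6, 5, 4, 3, 2, 1, 0, 1, 2, 3, 4, 5, 6, 7, 8, 9, 10, 5, 4, 6, 5, 7, 6, 8, 10, 11, 10, 5, 4, 3, 6, 5, 7, 6, 5, 6, 4, 5, 10, 11, 10, 5, 6, 4, 5, 10, 7, 8, 6, 7, 5, 6, 2, 3, 4, 5, 10, 11, 10, 6, 7, 5, 6, 3, 4, 5, 10, 9, 8, 7, 6, 5, 4, 3, 2, 1, 0, 1, 2, 3, 4, 5, 6, 7, 8, 9, 10, 5, 4, 3, 6, 5, 7, 6, 10, 11, 10, 5, 4, 3, 2, 6, 5, 7, 6, 8, 7, 10, 5, 4, 6, 5, 10, 11, 10, 5, 4, 6, 5]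
  | 1 => [5, 10, 11, 6, 4, 5, 10, 5, 6, 7, 3, 4, 5, 6, 2, 3, 4, 5, 10, 11, 6, 7, 5, 6, 2, 3, 4, 5, 10, 9, 8, 7, 6, 5, 4, 3, 2, 1, 0, 1, 2, 3, 4, 5, 6, 7, 8, 9, 10, 5, 4, 3, 2, 6, 5, 7, 6, 11, 10, 5, 4, 3, 2, 6, 5, 4, 3, 7, 6, 5, 10, 5, 4, 6, 11, 10, 5, 5, 6, 4, 5, 10, 11, 6, 3, 4, 5, 10, 9, 8, 6, 7, 3, 4, 5, 6, 1, 2, 3, 4, 5, 10, 11, 8, 7, 4, 5, 6, 3, 4, 5, 10, 9, 8, 7, 6, 5, 4, 3, 2, 0, 1, 0, 1, 0, 2, 3, 4, 5, 6, 7, 8, 9, 10, 5, 4, 3, 6, 5, 4, 7, 8, 11, 10, 5, 4, 3, 2, 1, 6, 5, 4, 3, 7, 6, 8, 9, 10, 5, 4, 3, 6, 11, 10, 5, 4, 6, 5]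
  | 2 => [0, 1, 2, 3, 4, 5, 10, 8, 6, 7, 5, 6, 3, 4, 5, 10, 11, 8, 7, 5, 6, 3, 4, 5, 10, 9, 8, 7, 6, 5, 4, 3, 2, 1, 0, 1, 2, 3, 4, 5, 6, 7, 8, 9, 10, 5, 4, 3, 6, 5, 7, 8, 11, 10, 5, 4, 3, 6, 5, 7, 6, 8, 10, 5, 4, 3, 2, 1, 0, 5, 10, 11, 4, 5, 10, 9, 7, 8, 6, 7, 4, 5, 6, 3, 4, 5, 10, 11, 6, 7, 4, 5, 6, 3, 4, 5, 10, 9, 8, 7, 6, 5, 4, 3, 2, 0, 1, 0, 1, 0, 2, 3, 4, 5, 6, 7, 8, 9, 10, 5, 4, 3, 6, 5, 4, 7, 6, 11, 10, 5, 4, 3, 6, 5, 4, 7, 6, 8, 7, 9, 10, 5, 4, 11, 10, 5]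
  | 3 => [5, 10, 11, 6, 4, 5, 10, 7, 6, 5, 4, 3, 1, 2, 0, 1, 0, 1, 0, 2, 1, 3, 4, 5, 6, 7, 10, 5, 4, 6, 11, 10, 5, 5, 6, 4, 5, 10, 11, 4, 5, 6, 3, 4, 5, 10, 9, 8, 7, 6, 5, 4, 3, 2, 0, 1, 0, 1, 0, 2, 3, 4, 5, 6, 7, 8, 9, 10, 5, 4, 3, 6, 5, 4, 11, 10, 5, 4, 6, 5, 5, 10, 11, 8, 5, 6, 7, 4, 5, 6, 3, 4, 5, 10, 9, 8, 7, 6, 5, 4, 3, 2, 0, 1, 0, 1, 0, 2, 3, 4, 5, 6, 7, 8, 9, 10, 5, 4, 3, 6, 5, 4, 7, 6, 5, 8, 11, 10, 5, 7, 6, 4, 5, 10, 6, 7, 8, 4, 5, 6, 7, 3, 4, 5, 6, 2, 3, 4, 5, 10, 11, 6, 7, 4, 5, 6, 3, 4, 5, 10, 9, 8, 7, 6, 5, 4, 3, 2, 1, 0, 1, 2, 3, 4, 5, 6, 7, 8, 9, 10, 5, 4, 3, 6, 5, 4, 7, 6, 11, 10, 5, 4, 3, 2, 6, 5, 4, 3, 7, 6, 5, 4, 8, 7, 6, 10, 5, 4, 6, 7]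
  | 4 => [7, 6, 3, 4, 5, 10, 11, 5, 6, 4, 5, 10, 9, 8, 7, 6, 5, 4, 3, 2, 1, 0, 1, 2, 3, 4, 5, 6, 7, 8, 9, 10, 5, 4, 6, 5, 11, 10, 5, 4, 3, 6, 7, 11, 10, 8, 7, 5, 6, 3, 4, 5, 10, 11, 7, 5, 6, 2, 3, 4, 5, 10, 9, 8, 7, 6, 5, 4, 3, 2, 0, 1, 0, 1, 0, 2, 3, 4, 5, 6, 7, 8, 9, 10, 5, 4, 3, 2, 6, 5, 7, 11, 10, 5, 4, 3, 6, 5, 7, 8, 10, 11, 4, 5, 10, 6, 7, 5, 6, 4, 5, 10, 11, 6, 7, 4, 5, 6, 3, 4, 5, 10, 8, 7, 6, 5, 4, 3, 1, 2, 0, 1, 0, 1, 0, 2, 1, 3, 4, 5, 6, 7, 8, 10, 5, 4, 3, 6, 5, 4, 7, 6, 11, 10, 5, 4, 6, 5, 7, 6, 10, 5, 4, 11, 7, 6, 5, 10, 9, 8, 6, 7, 4, 5, 6, 3, 4, 5, 10, 11, 6, 7, 4, 5, 6, 3, 4, 5, 10, 9, 8, 7, 6, 5, 4, 3, 2, 1, 0, 1, 2, 3, 4, 5, 6, 7, 8, 9, 10,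 5, 4, 3, 6, 5, 4, 7, 6, 11, 10, 5, 4, 3, 6, 5, 4, 7, 6, 8, 9, 10, 5, 6, 7, 11]
  | 5 => [5, 10, 11, 6, 2, 3, 4, 5, 10, 9, 8, 7, 6, 5, 4, 3, 2, 0, 1, 0, 1, 0, 2, 3, 4, 5, 6, 7, 8, 9, 10, 5, 4, 3, 2, 6, 11, 10, 5, 10, 6, 7, 4, 5, 6, 3, 4, 5, 10, 11, 10, 7, 5, 6, 3, 4, 5, 10, 8, 7, 6, 5, 4, 3, 2, 0, 1, 0, 1, 0, 2, 3, 4, 5, 6, 7, 8, 10, 5, 4, 3, 6, 5, 7, 10, 11, 10, 5, 4, 3, 6, 5, 4, 7, 6, 10, 4, 5, 10, 9, 7, 8, 6, 7, 5, 6, 4, 5, 10, 11, 10, 7, 8, 6, 7, 5, 6, 3, 4, 5, 10, 9, 8, 7, 6, 5, 4, 3, 1, 2, 0, 1, 0, 1, 0, 2, 1, 3, 4, 5, 6, 7, 8, 9, 10, 5, 4, 3, 6, 5, 7, 6, 8, 7, 10, 11, 10, 5, 4, 6, 5, 7, 6, 8, 7, 9, 10, 5, 4, 5, 6, 4, 5, 10, 11, 3, 4, 5, 10, 9, 7, 8, 6,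 7, 5, 6, 2, 3, 4, 5, 10, 11, 10, 8, 7, 5, 6, 3, 4, 5, 10, 9, 8, 7, 6, 5, 4, 3, 2, 0, 1, 0, 1, 0, 2, 3, 4, 5, 6, 7, 8, 9, 10, 5, 4, 3, 6, 5, 7, 8, 10, 11, 10, 5, 4, 3, 2, 6, 5, 7, 6, 8, 7, 9, 10, 5, 4, 3, 11, 10, 5, 4, 6, 5]
  | 6 => [4, 5, 10, 11, 7, 5, 6, 4, 5, 10, 9, 8, 7, 6, 5, 4, 3, 2, 1, 0, 1, 2, 3, 4, 5, 6, 7, 8, 9, 10, 5, 4, 6, 5, 7, 11, 10, 5, 4, 7, 6, 3, 4, 5, 10, 11, 5, 6, 3, 4, 5, 10, 9, 8, 7, 6, 5, 4, 3, 1, 2, 0, 1, 0, 1, 0, 2, 1, 3, 4, 5, 6, 7, 8, 9, 10, 5, 4, 3, 6, 5, 11, 10, 5, 4, 3, 6, 7, 4, 5, 10, 7, 8, 6, 7, 5, 6, 1, 2, 3, 4, 5, 10, 11, 5, 6, 3, 4, 5, 10, 9, 8, 7, 6, 5, 4, 3, 2, 1, 0, 1, 2, 3, 4, 5, 6, 7, 8, 9, 10, 5, 4, 3, 6, 5, 11, 10, 5,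 4, 3, 2, 1, 6, 5, 7, 6, 8, 7, 10, 5, 4, 5, 10, 11, 4, 5, 10, 9, 7, 8, 6, 7, 4, 5, 6, 3, 4, 5, 10, 11, 6, 7, 5, 6, 3, 4, 5, 10, 9, 8, 7, 6, 5, 4, 3, 1, 2, 0, 1, 0, 1, 0, 2, 1, 3, 4, 5, 6, 7, 8, 9, 10, 5, 4, 3, 6, 5, 7, 6, 11, 10, 5, 4, 3, 6, 5, 4, 7, 6, 8, 7, 9, 10, 5, 4, 11, 10, 5]
  | _ => []

end Cfsg.Agent.Lib.Helper12.Fi24Ex
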