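import Cfsg.Agent.Lib.Helper12.Fi24Ex.Transp

/-!
The centraliser of the transposition `l` of the presented Fischer group Fi24 meets the commutator subgroup in a simple
group of the order of Fi23; the same for the other transpositions (helper12).
-/

set_option autoImplicit false
set_option maxRecDepth 100000

namespace Cfsg.Agent.Lib.Helper12.Fi24Ex

open Cfsg.Spor Cfsg.Agent.Lib.Helper12.TC Cfsg.Agent.Lib.Helper12.TCG Cfsg.Agent.Lib.Helper12.TCG.Fi24Pres
  Cfsg.Agent.Lib.Helper12.TCG.Fi24x306936 Cfsg.Agent.Lib.Helper12.Ord Cfsg.Agent.Lib.Helper12.Fi24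

/-- the intersection of the centraliser of `l` with the commutator subgroup -/
noncomputable def K23 : Subgroup Fi24 := Hs ⊓ commutator Fi24

theorem K23_le_Hs : K23 ≤ Hs := inf_le_left

theorem K23_le_comm : K23 ≤ commutator Fi24 := inf_le_right

/-- the homomorphism to the quotient of the centraliser by `l` -/
noncomputable def psi : K23 →* Hs ⧸ L := (QuotientGroup.mk' L).comp (Subgroup.inclusion K23_le_Hs)

theorem psi_injective : Function.Injective psi := by
  rw [← MonoidHom.ker_eq_bot_iff, eq_bot_iff]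
  intro x hx
  rw [Subgroup.mem_bot]
  have h1 : (QuotientGroup.mk' L) (Subgroup.inclusion K23_le_Hs x) = 1 := hx
  have h2 := (QuotientGroup.eq_one_iff _).mp h1
  rcases mem_L _ h2 with h3 | h3
  · apply Subtype.ext
    have h4 : ((Subgroup.inclusion K23_le_Hs x : Hs) : Fi24) = ((1 : Hs) : Fi24) := congrArg Subtype.val h3
    exact h4
  · exfalso
    have h4 : (x : Fi24) = g .l := congrArg Subtype.val h3
    apply l_not_mem_commutator
    rw [← h4]
    exact K23_le_comm x.2

theorem psi_surjective : Function.Surjective psi := by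
  intro q
  obtain ⟨h, rfl⟩ := QuotientGroup.mk_surjective q
  by_cases hc : (h : Fi24) ∈ commutator Fi24
  · refine ⟨⟨h, ⟨h.2, hc⟩⟩, ?_⟩
    show (QuotientGroup.mk' L) (Subgroup.inclusion K23_le_Hs ⟨h, ⟨h.2, hc⟩⟩) = _
    rfl
  · have hl : g .l ∈ Hs := g_mem_Hs _ (by simp [SH])
    have h1 : (h : Fi24) * g .l ∈ commutator Fi24 := by
      rw [Subgroup.mul_mem_iff_of_index_two Cfsg.Agent.S1691.result]
      exact ⟨fun h' => absurd h' hc, fun h' => absurd h' l_not_mem_commutator⟩
    refine ⟨⟨(h : Fi24) * g .l, ⟨Hs.mul_mem h.2 hl, h1⟩⟩, ?_⟩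
    show (QuotientGroup.mk' L) (Subgroup.inclusion K23_le_Hs ⟨(h : Fi24) * g .l, _⟩) = _
    have e : Subgroup.inclusion K23_le_Hs ⟨(h : Fi24) * g .l, ⟨Hs.mul_mem h.2 hl, h1⟩⟩ = h * lH := rfl
    rw [e, map_mul]
    have h2 : (QuotientGroup.mk' L) lH = 1 := (QuotientGroup.eq_one_iff _).mpr (Subgroup.mem_zpowers lH)
    rw [h2, mul_one]
    rfl

/-- the subgroup is a copy of the quotient -/
noncomputable def equivK23 : K23 ≃* Hs ⧸ L := MulEquiv.ofBijective psi ⟨psi_injective, psi_surjective⟩

theorem isFi23_K23 : Cfsg.IsFi23 K23 := by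
  have hs : IsSimpleGroup (Hs ⧸ L) := isSimpleGroup_quot spider' ha1 hal
  constructor
  · have hnt : Nontrivial K23 := equivK23.toEquiv.nontrivial
    exact IsSimpleGroup.isSimpleGroup_of_surjective equivK23.symm.toMonoidHom equivK23.symm.surjective
  · rw [Nat.card_congr equivK23.toEquiv]
    exact card_quot spider' ha1 hal

/-- the copies of the subgroup in the centralisers of the other transpositions -/
theorem exists_Fi23 (d : Fi24) (hd : d ∈ conjugatesOf tt) :
    ∃ K : Subgroup Fi24, K ≤ Subgroup.centralizer ({d} : Set Fi24) ∧ Cfsg.IsFi23 K := by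
  obtain ⟨x, rfl⟩ := isConj_iff.mp hd
  refine ⟨K23.map (MulAut.conj x).toMonoidHom, ?_, ?_⟩
  · rw [centralizer_conj_eq_map tt x, centralizer_tt]
    exact Subgroup.map_mono K23_le_Hs
  · have e : K23 ≃* K23.map (MulAut.conj x).toMonoidHom :=
      K23.equivMapOfInjective _ (MulAut.conj x).injective
    obtain ⟨h1, h2⟩ := isFi23_K23
    constructor
    · have hnt : Nontrivial (K23.map (MulAut.conj x).toMonoidHom) := e.symm.toEquiv.nontrivial
      exact IsSimpleGroup.isSimpleGroup_of_surjective e.toMonoidHom e.surjective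
    · rw [← Nat.card_congr e.toEquiv]
      exact h2

end Cfsg.Agent.Lib.Helper12.Fi24Ex
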