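import Cfsg.Agent.Lib.Helper12.Fi24Ex.Base
import Cfsg.Agent.Lib.Helper12.Ord.ThreeTransp

/-!
The presented Fischer group Fi24 is generated by a class of 306936 3-transpositions, the conjugates of the generator
`l`; the centralisers of the transpositions (helper12).
-/

set_option autoImplicit false
set_option maxRecDepth 100000

namespace Cfsg.Agent.Lib.Helper12.Fi24Ex

open Cfsg.Spor Cfsg.Agent.Lib.Helper12.TC Cfsg.Agent.Lib.Helper12.TCG Cfsg.Agent.Lib.Helper12.TCG.Fi24Pres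
  Cfsg.Agent.Lib.Helper12.TCG.Fi24x306936 Cfsg.Agent.Lib.Helper12.Ord Cfsg.Agent.Lib.Helper12.Fi24

theorem hpt1 : Nat.beq (TT 1 0) 1 = true := by decide +kernel

theorem rho_v1 : rho (v 1) ⟨0, hN0⟩ = ⟨1, by decide⟩ := by
  apply Fin.ext
  rw [rho_gen 1 (by decide)]
  exact Nat.eq_of_beq_eq_true hpt1

theorem rho_cw2 : rho (wprod v (cw 2)) ⟨0, hN0⟩ = ⟨275286, by decide⟩ := by
  apply Fin.ext
  rw [Fn.rho_word v rho rho_gen (cw 2) (cw_lt 2 (by decide))]
  exact cw_pt 2 (by decide)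

theorem h₁ : (tt * (v 1 * tt * (v 1)⁻¹)) ^ 3 = 1 := by
  have hinv : (v 1)⁻¹ = v 1 := inv_eq_of_mul_eq_one_left (hvsq 1 (by decide))
  have h3 : (v 0 * v 1) ^ 3 = 1 := g_braid .l .k (by decide)
  rw [hinv, tt_eq_v]
  have e : v 0 * (v 1 * v 0 * v 1) = (v 0 * v 1) ^ 2 := by
    rw [pow_two]; simp only [mul_assoc]
  rw [e, ← pow_mul, show 2 * 3 = 3 * 2 from rfl, pow_mul, h3, one_pow]

theorem h₂ : (tt * (wprod v (cw 2) * tt * (wprod v (cw 2))⁻¹)) ^ 2 = 1 := by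
  rw [← conj_gen 2 (by decide), tt_eq_v, pow_two]
  have hc : v 0 * v 2 = v 2 * v 0 := g_comm .l .a (by decide)
  calc v 0 * v 2 * (v 0 * v 2) = v 0 * v 2 * (v 2 * v 0) := by rw [hc]
    _ = v 0 * (v 2 * v 2) * v 0 := by simp only [mul_assoc]
    _ = 1 := by rw [hvsq 2 (by decide), mul_one, hvsq 0 (by decide)]

theorem hcover : ∀ i : Fin cN, i = ⟨0, hN0⟩ ∨ (∃ h ∈ Hs, rho h (rho (v 1) ⟨0, hN0⟩) = i) ∨
    (∃ h ∈ Hs, rho h (rho (wprod v (cw 2)) ⟨0, hN0⟩) = i) := by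
  obtain ⟨Φ, hΦ⟩ := rho_equiv
  have horb1 := Fn.orbit_image Hs v rho rho_gen hH Φ hN0 hΦ hsub (lo := 1) (hi := 275265)
    (by decide) (by decide) horbi1 horbc1
  have horb2 := Fn.orbit_image Hs v rho rho_gen hH Φ hN0 hΦ hsub (lo := 275265) (hi := 306936)
    (by decide) (by decide) horbi2 horbc2
  have hact : ∀ (γ : Fi24) (q : Fi24 ⧸ Hs), Φ (γ • q) = rho γ (Φ q) := by
    intro γ q
    induction q using QuotientGroup.induction_on with
    | H δ =>
      have : γ • (δ : Fi24 ⧸ Hs) = ((γ * δ : Fi24) : Fi24 ⧸ Hs) := rfl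
      rw [this, hΦ, hΦ, map_mul, Equiv.Perm.mul_apply]
  have hpick : ∀ (b : Fin cN) (S : Set (Fin cN)), Φ '' MulAction.orbit Hs (Φ.symm b) = S →
      ∀ i ∈ S, ∃ h ∈ Hs, rho h b = i := by
    intro b S hS i hi
    rw [← hS] at hi
    obtain ⟨q, ⟨⟨h, hh⟩, rfl⟩, rfl⟩ := hi
    refine ⟨h, hh, ?_⟩
    show rho h b = Φ (h • Φ.symm b)
    rw [hact, Equiv.apply_symm_apply]
  intro i
  rcases Nat.lt_or_ge i.val 1 with h0 | h0
  · left
    apply Fin.ext
    show i.val = 0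
    omega
  · rcases Nat.lt_or_ge i.val 275265 with h1 | h1
    · right; left
      rw [rho_v1]
      exact hpick _ _ horb1 i ⟨h0, h1⟩
    · right; right
      rw [rho_cw2]
      obtain ⟨h0, hh0, e0⟩ := hpick _ _ horb2 ⟨275286, by decide⟩ ⟨by decide, by decide⟩
      obtain ⟨h, hh, e⟩ := hpick _ _ horb2 i ⟨h1, i.isLt⟩
      refine ⟨h * h0⁻¹, Hs.mul_mem hh (Hs.inv_mem hh0), ?_⟩
      have e1 : rho (h * h0⁻¹) (rho h0 ⟨275265, by decide⟩) = rho h ⟨275265, by decide⟩ := by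
        rw [← Equiv.Perm.mul_apply, ← map_mul, inv_mul_cancel_right]
      rw [← e0, e1]
      exact e

theorem isThreeTranspositionClass : Cfsg.IsThreeTranspositionClass (conjugatesOf tt) := by
  obtain ⟨Φ, hΦ⟩ := rho_equiv
  exact isThreeTranspositionClass_of_data Hs rho hN0 Φ hΦ tt tt_sq tt_ne_one l_central
    normalClosure_l (v 1) (wprod v (cw 2)) hcover 3 2 (Or.inr rfl) (Or.inl rfl) h₁ h₂

theorem card_class : Nat.card (conjugatesOf tt) = 306936 := by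
  rw [card_conjugatesOf_eq_index, centralizer_tt]
  exact rho_index

/-- the orders of the centralisers of the elements of the class -/
theorem card_centralizer (d : Fi24) (hd : d ∈ conjugatesOf tt) :
    Nat.card (Subgroup.centralizer ({d} : Set Fi24)) = 2 * 4089470473293004800 := by
  obtain ⟨x, rfl⟩ := isConj_iff.mp hd
  rw [← Nat.card_congr (centralizerConjEquiv tt x).toEquiv, centralizer_tt, card_Hs_eq]

end Cfsg.Agent.Lib.Helper12.Fi24Ex
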